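import Cfsg.Agent.H354.EPX.CellSix
import Cfsg.Agent.H354.EPX.UbD
import Cfsg.Agent.H38.CS.E6Three
import Cfsg.Agent.H972.CS.E6Five
import Cfsg.Agent.H972.CS.TwE6Seven

/-!
# S5745: the cells `e6.cross`, `te6.cross`, final form (helper296)
-/

set_option autoImplicit false

namespace Cfsg.Agent.H296.EPX

open Cfsg Cfsg.Agent.H354.EPX Cfsg.Agent.H542.EPX Cfsg.Agent.H889.Enum Cfsg.Agent.H742.EX

/-- the class bounds of `E₆(2)` -/
theorem clsE6 : ClsE6 where
  c3 F _ _ hF x hx := H38.CS.e6_c3' hF hx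
  c5 F _ _ hF x hx := le_trans (by norm_num) (H972.CS.E6Five.cG_five hF x hx)

/-- the class bound of `²E₆(2)` -/
theorem clsTE6 : ClsTE6 := fun K _ _ hK x hx =>
  le_trans (by norm_num) (H972.CS.TwE6Seven.cG_seven hK x hx)

/-- **the cell `e6.cross`** -/
theorem e6_cross (hK : AllK) (F : Type) [Field F] [Fintype F] (p : ℕ) [Fact p.Prime] [CharP F p]
    [IsSimpleGroup ↥(Lie.chevE6.group F)] : Cross p ↥(Lie.chevE6.group F) :=
  H354.EPX.e6_cross hK ubE clsE6 F p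

/-- **the cell `te6.cross`** -/
theorem te6_cross (hK : AllK) (K : Type) [Field K] [Fintype K] (p q : ℕ) [Fact p.Prime]
    [CharP K p] [IsSimpleGroup ↥(Lie.twistedE6 K q)] (hq : IsPrimePow q) (hKq : Fintype.card K = q ^ 2) :
    Cross p ↥(Lie.twistedE6 K q) :=
  H354.EPX.te6_cross hK ubE clsTE6 K p q hq hKq

end Cfsg.Agent.H296.EPX
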