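import Cfsg.Agent.H742.EX.TwoAll
import Cfsg.Agent.H364.LieNam
import Cfsg.Agent.H686.EX.Rows4
import Cfsg.Agent.H354.EPX.Glue
import Cfsg.Agent.H902.Facts

/-!
# S5745: no two-point stabiliser is a 2-group, `T = L₄(3), U₄(3), G₂(3)`, and the rows in terms of class bounds (helper296)
-/

set_option autoImplicit false
set_option linter.unusedSectionVars false

namespace Cfsg.Agent.H296.EPX

open Subgroup Cfsg Cfsg.Agent.OrdDiv Cfsg.Agent.H902 Cfsg.Agent.H284 Cfsg.Agent.H209.EPX Cfsg.Agent.H742.EX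
open Cfsg.Agent.H354.EPX

/-- `|T|_2 ^ 3 ≤ |T|` : not of Lie type in characteristic two -/
theorem not_char_two {T : Type} [Group T] {t v m : ℕ} (ht : Nat.card T = t) (hv : t = 2 ^ v * m) (hm : ¬ 2 ∣ m)
    (h : (2 ^ v) ^ 3 ≤ t) : ¬ IsLieTypeChar 2 T := by
  intro hc
  obtain ⟨g, X, f, -, -, hr⟩ := H364.LieNam.lie_nam table.{0} Nat.prime_two hc
  have h1 := hr.lt_cube
  have h2 : Art.P 2 (Nat.card T) = 2 ^ v := by
    have hm0 : m ≠ 0 := by rintro rfl; exact hm (dvd_zero _)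
    rw [ht, Art.P, hv, Nat.factorization_mul (by positivity) hm0, Finsupp.add_apply, Nat.factorization_pow,
      Finsupp.smul_apply, Nat.Prime.factorization_self Nat.prime_two, Nat.factorization_eq_zero_of_not_dvd hm]
    simp
  rw [h2, ht] at h1
  omega

/-- the order of `L₂(2 ^ n ± 1)` -/
theorem fm_card {T : Type} [Group T] (h : FM T) : ∃ q, q * (q ^ 2 - 1) = 2 * Nat.card T := by
  obtain ⟨F, i1, i2, n, h3, hF, ⟨e⟩⟩ := h
  refine ⟨Fintype.card F, ?_⟩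
  obtain ⟨q, hq⟩ : ∃ q, Fintype.card F = q := ⟨_, rfl⟩
  rw [hq] at h3 hF ⊢
  have h1 := Cfsg.Agent.S0243.result (F := F) hq 2 le_rfl
  rw [← Nat.card_congr e.toEquiv, Fin.prod_univ_two] at h1
  have hn : n ≠ 0 := by
    rintro rfl
    omega
  have h2 : 2 ∣ 2 ^ n := dvd_pow_self 2 hn
  have ho : 2 ∣ q - 1 := by
    obtain ⟨c, hc⟩ := h2
    rcases hF with hF | hF
    · exact ⟨c, by omega⟩
    · exact ⟨c - 1, by omega⟩
  have hg : Nat.gcd 2 (q - 1) = 2 := Nat.gcd_eq_left ho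
  rw [hg] at h1
  have h4 : 0 < q - 1 := by omega
  have h5 : (q ^ 2 - (q : ℕ) ^ ((0 : Fin 2) : ℕ)) * (q ^ 2 - q ^ ((1 : Fin 2) : ℕ)) = (q - 1) * (q * (q ^ 2 - 1)) := by
    have e1 : ((0 : Fin 2) : ℕ) = 0 := rfl
    have e2 : ((1 : Fin 2) : ℕ) = 1 := rfl
    rw [e1, e2, pow_zero, pow_one]
    have h6 : q ^ 2 - q = (q - 1) * q := by
      rw [Nat.sub_mul, one_mul, sq]
    rw [h6]
    ring
  rw [h5] at h1
  have h7 : (q - 1) * (q * (q ^ 2 - 1)) = (q - 1) * (2 * Nat.card T) := by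
    rw [← h1]
    ring
  exact Nat.eq_of_mul_eq_mul_left h4 h7

theorem not_fm {T : Type} [Group T] {t c : ℕ} (ht : Nat.card T = t) (h1 : c * (c ^ 2 - 1) < 2 * t)
    (h2 : 2 * t < (c + 1) * ((c + 1) ^ 2 - 1)) : ¬ FM T := by
  intro h
  obtain ⟨q, hq⟩ := fm_card h
  rw [ht] at hq
  rcases Nat.lt_or_ge q (c + 1) with h3 | h3
  · have h4 : q * (q ^ 2 - 1) ≤ c * (c ^ 2 - 1) :=
      Nat.mul_le_mul (by omega) (Nat.sub_le_sub_right (Nat.pow_le_pow_left (by omega) 2) 1)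
    omega
  · have h4 : (c + 1) * ((c + 1) ^ 2 - 1) ≤ q * (q ^ 2 - 1) :=
      Nat.mul_le_mul h3 (Nat.sub_le_sub_right (Nat.pow_le_pow_left h3 2) 1)
    omega

section

variable {G : Type} [Group G] [Finite G]

/-- `T = L₄(3)` -/
theorem nos_l43 (c3 : ∀ x : G, orderOf x = 3 → 3 * 2 ^ 36 ≤ cG x) (c5 : ∀ x : G, orderOf x = 5 → 2 ^ 46 ≤ cG x)
    (c13 : ∀ x : G, orderOf x = 13 → 2 ^ 46 ≤ cG x) : NoS G (.psl 4 3) := by
  intro H N T _ e h hT
  obtain ⟨F, i1, i2, hF, ⟨i⟩⟩ := hT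
  have hTf : Finite T := Finite.of_equiv _ i.symm.toEquiv
  have ht : Nat.card T = 6065280 := by rw [Nat.card_congr i.toEquiv, H686.EX.card_psl43 hF]
  refine H686.EX.psl43' h (fun g hg => EPS.noTwo_cross h ?_ ?_ hg) hF i c3 c5 c13
  · exact not_char_two (v := 7) (m := 47385) ht (by norm_num) (by norm_num) (by norm_num)
  · exact not_fm (c := 229) ht (by norm_num) (by norm_num)

/-- `T = U₄(3)` -/
theorem nos_u43 (c3 : ∀ x : G, orderOf x = 3 → 3 * 2 ^ 36 ≤ cG x) (c5 : ∀ x : G, orderOf x = 5 → 2 ^ 46 ≤ cG x)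
    (c7 : ∀ x : G, orderOf x = 7 → 2 ^ 46 ≤ cG x) : NoS G (.psu 4 3) := by
  intro H N T _ e h hT
  obtain ⟨F, i1, i2, hF, ⟨i⟩⟩ := hT
  have hF' : Fintype.card F = 9 := hF.trans (by norm_num)
  have hTf : Finite T := Finite.of_equiv _ i.symm.toEquiv
  have ht : Nat.card T = 3265920 := (H686.EX.psu43_data h hF' i).1
  refine H686.EX.psu43' h (fun g hg => EPS.noTwo_cross h ?_ ?_ hg) hF' i c3 c5 c7
  · exact not_char_two (v := 7) (m := 25515) ht (by norm_num) (by norm_num) (by norm_num)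
  · exact not_fm (c := 186) ht (by norm_num) (by norm_num)

/-- `T = G₂(3)` -/
theorem nos_g23 (c3 : ∀ x : G, orderOf x = 3 → 3 * 2 ^ 36 ≤ cG x) (c7 : ∀ x : G, orderOf x = 7 → 2 ^ 46 ≤ cG x)
    (c13 : ∀ x : G, orderOf x = 13 → 2 ^ 46 ≤ cG x) : NoS G (.g2 3) := by
  intro H N T _ e h hT
  obtain ⟨F, i1, i2, hF, ⟨i⟩⟩ := hT
  have hTf : Finite T := Finite.of_equiv _ i.symm.toEquiv
  have ht : Nat.card T = 4245696 := (H686.EX.g23_data hF i).1
  refine H686.EX.g23' h (fun g hg => EPS.noTwo_cross h ?_ ?_ hg) hF i c3 c7 c13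
  · exact not_char_two (v := 6) (m := 66339) ht (by norm_num) (by norm_num) (by norm_num)
  · exact not_fm (c := 204) ht (by norm_num) (by norm_num)

end

end Cfsg.Agent.H296.EPX
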