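import Cfsg.Agent.H296.EPX.RowsThree
import Cfsg.Agent.H41.EPX.ESixU39
import Cfsg.Agent.H523.EPX.AdmTwo
import Cfsg.Agent.H786.EX.AltTen
import Cfsg.Agent.H784.EX.TE6Five
import Cfsg.Agent.H602.EPX.TE6
import Cfsg.Agent.H948.EPX.RowO7

/-!
# S5745: the rows of `E₆(2)` and `²E₆(2)` (helper296)

The rows which wait for class bounds are hypotheses (`l43`, `tits`; for `²E₆(2)` also `u43`, `g23`).
-/

set_option autoImplicit false

namespace Cfsg.Agent.H296.EPX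

open Cfsg Cfsg.Agent.OrdDiv Cfsg.Agent.H354.EPX Cfsg.Agent.H357.EP Cfsg.Agent.H209.EPX

/-- **the rows of `E₆(2)`** -/
theorem rows_e6_two (hBr : Cfsg.Agent.H839.EP.Br) (F : Type) [Field F] [Fintype F]
    [IsSimpleGroup ↥(Lie.chevE6.group F)] (hF : Fintype.card F = 2)
    (l43 : NoS ↥(Lie.chevE6.group F) (.psl 4 3)) (tits : NoTits ↥(Lie.chevE6.group F)) :
    RowsE6Two ↥(Lie.chevE6.group F) where
  u39 := by
    intro H N T _ e h hT
    obtain ⟨K, i1, i2, hK, ⟨i⟩⟩ := hT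
    exact H41.EPX.e6_psu39 (by rw [Nat.card_eq_fintype_card, hF]) h (hK.trans (by norm_num)) i
  l43 := l43
  u43 := by
    intro H N T _ e h hT
    obtain ⟨K, i1, i2, hK, ⟨i⟩⟩ := hT
    exact H523.EPX.e6_psu43 (by rw [Nat.card_eq_fintype_card, hF]) h (hK.trans (by norm_num)) i
  g23 := by
    intro H N T _ e h hT
    obtain ⟨K, i1, i2, hK, ⟨i⟩⟩ := hT
    exact H523.EPX.e6_g2_three (by rw [Nat.card_eq_fintype_card, hF]) h hK i
  a10 := by
    intro H N T _ e h hT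
    obtain ⟨i⟩ := hT
    refine H786.EX.e6q2_alt10 hBr ?_ h i
    have h1 := table.{0}.e6 F 2 hF
    have h2 : Nat.gcd 3 (2 - 1) = 1 := by norm_num
    rw [h2] at h1
    omega
  tits := tits

/-- **the rows of `²E₆(2)`** -/
theorem rows_te6_two (hA : Cfsg.Agent.H995.CopEngine.AllKnown.{0}) (K : Type) [Field K] [Fintype K]
    [IsSimpleGroup ↥(Lie.twistedE6 K 2)] (hK : Fintype.card K = 4)
    (l43 : NoS ↥(Lie.twistedE6 K 2) (.psl 4 3)) (u43 : NoS ↥(Lie.twistedE6 K 2) (.psu 4 3))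
    (g23 : NoS ↥(Lie.twistedE6 K 2) (.g2 3)) (tits : NoTits ↥(Lie.twistedE6 K 2)) :
    RowsTE6Two ↥(Lie.twistedE6 K 2) where
  s63 := by
    intro H N T _ e h hT
    obtain ⟨F, i1, i2, hF, ⟨i⟩⟩ := hT
    exact H602.EPX.te6_psp63 hK h hF i
  o73 := by
    intro H N T _ e h hT
    obtain ⟨F, i1, i2, hF, ⟨i⟩⟩ := hT
    exact H948.EPX.row_o73 hA hK (MulEquiv.refl _) h hF i
  l43 := l43
  u43 := u43
  g23 := g23
  a10 := by
    intro H N T _ e h hT
    obtain ⟨i⟩ := hT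
    exact H784.EX.te6_alt hK h (by norm_num) (by norm_num) i
  a11 := by
    intro H N T _ e h hT
    obtain ⟨i⟩ := hT
    exact H784.EX.te6_alt hK h (by norm_num) (by norm_num) i
  a12 := by
    intro H N T _ e h hT
    obtain ⟨i⟩ := hT
    exact H784.EX.te6_alt hK h (by norm_num) (by norm_num) i
  tits := tits

end Cfsg.Agent.H296.EPX
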