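import Cfsg.Agent.H354.EPX.Cells6
import Cfsg.Agent.H357.EP.O8
import Cfsg.Agent.H357.EP.Uni62
import Cfsg.Agent.H357.EP.V27
import Cfsg.Agent.H545.EX.GFour
import Cfsg.Agent.H929.TB.RowsB

/-!
# S5745: the rows of `E₆(3)` and `²E₆(3)` (helper296)
-/

set_option autoImplicit false

namespace Cfsg.Agent.H296.EPX

open Cfsg Cfsg.Agent.OrdDiv Cfsg.Agent.H354.EPX Cfsg.Agent.H357.EP Cfsg.Agent.H209.EPX

section

variable {G : Type} [Group G] (hG : InE6 G)

include hG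

theorem nos_s48 : NoS G (.psp 2 8) := by
  intro H N T _ e _ hT
  obtain ⟨F, i1, i2, hF, ⟨f⟩⟩ := hT
  exact H929.TB.not_inE6_psp hF f (hG.factor one_pos e)

theorem nos_o82 : NoS G (.oplus 4 2) := by
  intro H N T _ e _ hT
  obtain ⟨F, i1, i2, hF, ⟨f⟩⟩ := hT
  have h2 : (2 : F) = 0 := by
    have h0 : ((2 : ℕ) : F) = 0 := by
      rw [← hF]
      exact FiniteField.cast_card_eq_zero F
    exact_mod_cast h0
  have : CharP F 2 := CharTwo.of_one_ne_zero_of_two_eq_zero one_ne_zero h2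
  exact not_inE6_o8 ((hG.factor one_pos e).mono f.symm.toMonoidHom f.symm.injective)

theorem nos_u62 : NoS G (.psu 6 2) := by
  intro H N T _ e _ hT
  obtain ⟨F, i1, i2, hF, ⟨f⟩⟩ := hT
  exact not_inE6_psu6 (hF.trans (by norm_num)) ((hG.factor one_pos e).mono f.symm.toMonoidHom f.symm.injective)

theorem nos_g24 : NoS G (.g2 4) := by
  intro H N T _ e _ hT
  obtain ⟨F, i1, i2, hF, ⟨f⟩⟩ := hT
  exact H545.EX.not_inE6 hF f (hG.factor one_pos e)

theorem nos_g28 : NoS G (.g2 8) := by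
  intro H N T _ e _ hT
  obtain ⟨F, i1, i2, hF, ⟨f⟩⟩ := hT
  exact H929.TB.not_inE6_g2_eight hF f (hG.factor one_pos e)

end

/-- **the rows of `E₆(3)`** -/
theorem rowsE6Three (F : Type) [Field F] [Fintype F] (hF : Fintype.card F = 3) :
    RowsE6Three ↥(Lie.chevE6.group F) := by
  have hG : InE6 ↥(Lie.chevE6.group F) := inE6 (by rw [hF]; decide) (MulEquiv.refl _)
  exact ⟨nos_s48 hG, nos_o82 hG, nos_u62 hG, nos_g24 hG⟩

/-- **the rows of `²E₆(3)`** -/
theorem rowsTE6Three (K : Type) [Field K] [Fintype K] (hK : Fintype.card K = 9) :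
    RowsTE6Three ↥(Lie.twistedE6 K 3) := by
  have hG : InE6 ↥(Lie.twistedE6 K 3) := inE6_tw (by rw [hK]; decide) (MulEquiv.refl _)
  exact ⟨nos_s48 hG, nos_o82 hG, nos_g24 hG, nos_g28 hG⟩

end Cfsg.Agent.H296.EPX
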